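import Cfsg.Agent.H704.S8.Defs3

/-!
# S4908: the row COVER, one prime at a time (helper529)

`MultDvd n X`: the kernel of a perfect central extension of `X` has order dividing `n` (`Mult.lean` gives it for the 26
groups). `CoverAt r c D X`: the row COVER for the prime `r`. `cover_one`, `cover_prime`, `cover_two`: the row COVER from the
rows for the primes dividing `n`.
-/

set_option autoImplicit false

namespace Cfsg.Agent.H529.S8

open Cfsg Cfsg.Agent.H704.S8

universe u v

/-- the kernel of a perfect central extension of `X` has order dividing `n` -/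
def MultDvd (n : ℕ) (X : Type v) [Group X] : Prop :=
  ∀ {N : Type u} [Group N] [Finite N] (V : Subgroup N) [V.Normal], V ≤ Subgroup.center N → commutator N = ⊤ →
    Nonempty ((N ⧸ V) ≃* X) → Nat.card V ∣ n

/-- the row COVER for the prime `r` -/
def CoverAt (r c : ℕ) (D : Set ℕ) (X : Type v) [Group X] : Prop :=
  ∀ {N : Type u} [Group N] [Finite N] (V : Subgroup N) [V.Normal], Nat.card V = r →
    V ≤ Subgroup.center N → commutator N = ⊤ → Nonempty ((N ⧸ V) ≃* X) →
    ∀ i : ℕ, r ^ (2 * i) < c * Nat.card (ConjClasses X) →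
    ∃ (χ : N → ℂ) (d : ℕ), IsIrrCharacter N χ ∧ (∃ v ∈ V, χ v ≠ χ 1) ∧ χ 1 = d ∧
      d * r ^ i ∉ D ∧ (2 * (d * r ^ i) ∉ D ∨ ¬ charDegrees (MulAut X) ⊆ D)

/-- COVER from the rows at the prime divisors of the order of the multiplier -/
theorem cover_of {n c : ℕ} {D : Set ℕ} {X : Type v} [Group X] (h : MultDvd.{u} n X)
    (hr : ∀ r : ℕ, r.Prime → r ∣ n → CoverAt.{u} r c D X) : Cover3.{u} c D X := by
  intro N _ _ V _ r hp hV hc hN hX
  have h1 : r ∣ n := hV ▸ h V hc hN hX
  exact hr r hp h1 V hV hc hN hX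

/-- a group with trivial multiplier -/
theorem cover_one {c : ℕ} {D : Set ℕ} {X : Type v} [Group X] (h : MultDvd.{u} 1 X) : Cover3.{u} c D X :=
  cover_of h fun _ hp hr => absurd (Nat.dvd_one.1 hr) hp.one_lt.ne'

/-- multiplier of prime order -/
theorem cover_prime {n c : ℕ} {D : Set ℕ} {X : Type v} [Group X] (h : MultDvd.{u} n X) (hn : n.Prime)
    (hr : CoverAt.{u} n c D X) : Cover3.{u} c D X :=
  cover_of h fun _ hp hrn => by
    rw [(Nat.prime_dvd_prime_iff_eq hp hn).1 hrn]
    exact hr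

/-- multiplier of order `2 ^ a * 3 ^ b` -/
theorem cover_two {a b c : ℕ} {D : Set ℕ} {X : Type v} [Group X] (h : MultDvd.{u} (2 ^ a * 3 ^ b) X)
    (h2 : CoverAt.{u} 2 c D X) (h3 : CoverAt.{u} 3 c D X) : Cover3.{u} c D X :=
  cover_of h fun _ hp hrn => by
    rcases (Nat.Prime.dvd_mul hp).1 hrn with h4 | h4
    · rw [(Nat.prime_dvd_prime_iff_eq hp Nat.prime_two).1 (hp.dvd_of_dvd_pow h4)]
      exact h2
    · rw [(Nat.prime_dvd_prime_iff_eq hp Nat.prime_three).1 (hp.dvd_of_dvd_pow h4)]
      exact h3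

/-- from the form of the board: `Cover3` restricted to one prime -/
theorem CoverAt.of_cover3 {r c : ℕ} (hr : r.Prime) {D : Set ℕ} {X : Type v} [Group X] (h : Cover3.{u} c D X) :
    CoverAt.{u} r c D X :=
  fun V _ hV hc hN hX => h V r hr hV hc hN hX

end Cfsg.Agent.H529.S8
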