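import Cfsg.Agent.H529.S8.Mult
import Cfsg.Agent.H50.S8.FrobLem

/-!
# S4908: a row from its pieces (helper529)
-/

set_option autoImplicit false

namespace Cfsg.Agent.H529.S8

open Cfsg Cfsg.Agent.H704.S8 Cfsg.Agent.H58.S8

universe u v

/-- the row of a group from the pieces of the board -/
theorem row_of {X : Type v} [Group X] [Finite X] {c : ℕ} (hmo : MO.{u} c X)
    (hne : c = 2 → charDegrees X ≠ charDegrees (MulAut X))
    (hs : ∀ D : Set ℕ, Deg c X D → Solv.{u} D) (h1 : ∀ D : Set ℕ, Deg c X D → Soc1.{u} D X)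
    (h2 : ∀ D : Set ℕ, Deg c X D → Soc2.{u} D) (hf : ∀ D : Set ℕ, Deg c X D → FrobRow c D X)
    (hcov : ∀ D : Set ℕ, Deg c X D → Cover3.{u} c D X) : Row3.{u} c X where
  out := ⟨hmo.out.le, hne⟩
  solv := hs
  soc1 := h1
  soc2 := h2
  chief := fun D hD => H50.S8.chief_of_frobRow (hf D hD)
  cover := hcov
  mult := fun V _ => hmo.mult V

/-- the row of a group with trivial outer automorphism group and trivial multiplier -/
theorem row_one {X : Type v} [Group X] [Finite X] (hmo : MO.{u} 1 X) (hmd : MultDvd.{u} 1 X)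
    (hs : ∀ D : Set ℕ, Deg 1 X D → Solv.{u} D) (h1 : ∀ D : Set ℕ, Deg 1 X D → Soc1.{u} D X)
    (h2 : ∀ D : Set ℕ, Deg 1 X D → Soc2.{u} D) (hf : ∀ D : Set ℕ, Deg 1 X D → FrobRow 1 D X) : Row3.{u} 1 X :=
  row_of hmo (by norm_num) hs h1 h2 hf fun _ _ => cover_one hmd

end Cfsg.Agent.H529.S8
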