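import Cfsg.Agent.H58.S8.MultOut
import Cfsg.Agent.H529.S8.Cov

/-!
# S4908: the orders of the multipliers (helper529)

`md_m11`, ..., `md_m` : `MultDvd n X`, `n` the order of the multiplier.
-/

set_option autoImplicit false

namespace Cfsg.Agent.H529.S8

open Cfsg Cfsg.Agent.H704.S8 Cfsg.Agent.H58.S8

universe u v

theorem multDvd_of {M : Type} [Group M] {n : ℕ} (h : HasCyclicSchurMultiplier M n) {X : Type v} [Group X]
    (hXM : Nonempty (X ≃* M)) : MultDvd.{u} n X := by
  obtain ⟨e⟩ := hXM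
  intro N _ _ V _ hc hN hX
  obtain ⟨f⟩ := hX
  let E : Shrink.{0} N ≃* N := Shrink.mulEquiv
  let σ : Shrink.{0} N →* M :=
    (e.toMonoidHom.comp f.toMonoidHom).comp ((QuotientGroup.mk' V).comp E.toMonoidHom)
  have hker : ∀ x : Shrink.{0} N, x ∈ σ.ker ↔ E x ∈ V := by
    intro x
    rw [MonoidHom.mem_ker]
    show e (f (QuotientGroup.mk' V (E x))) = 1 ↔ _
    rw [EmbeddingLike.map_eq_one_iff, EmbeddingLike.map_eq_one_iff]
    exact QuotientGroup.eq_one_iff _
  have hstem : IsStemExtension σ := by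
    refine ⟨?_, ?_, ?_⟩
    · intro m
      obtain ⟨x, hx⟩ := QuotientGroup.mk'_surjective V (f.symm (e.symm m))
      refine ⟨E.symm x, ?_⟩
      show e (f (QuotientGroup.mk' V (E (E.symm x)))) = m
      rw [E.apply_symm_apply, hx, f.apply_symm_apply, e.apply_symm_apply]
    · intro x hx
      rw [Subgroup.mem_center_iff]
      intro y
      apply E.injective
      rw [map_mul, map_mul]
      exact Subgroup.mem_center_iff.1 (hc ((hker x).1 hx)) (E y)
    · have h1 : commutator (Shrink.{0} N) = ⊤ := by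
        have h2 : (commutator (Shrink.{0} N)).map E.toMonoidHom = commutator N := by
          rw [commutator_def, commutator_def, Subgroup.map_commutator, ← MonoidHom.range_eq_map]
          have h3 : E.toMonoidHom.range = ⊤ := MonoidHom.range_eq_top.2 E.surjective
          rw [h3]
        rw [hN] at h2
        rw [eq_top_iff]
        intro x _
        have h3 : E x ∈ (commutator (Shrink.{0} N)).map E.toMonoidHom := by rw [h2]; trivial
        obtain ⟨y, hy, hyx⟩ := h3
        have h4 : y = x := E.injective hyx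
        rwa [← h4]
      rw [h1]
      exact le_top
  have hfin : Finite (Shrink.{0} N) := Finite.of_equiv N E.symm.toEquiv
  obtain ⟨π, hπ⟩ := h.2 (Shrink.{0} N) σ hstem
  let ψ : σ.ker →* V :=
    { toFun := fun x => ⟨E x, (hker x).1 x.2⟩
      map_one' := Subtype.ext (map_one E)
      map_mul' := fun x y => Subtype.ext (map_mul E _ _) }
  have hψ : Function.Surjective ψ := by
    rintro ⟨y, hy⟩
    refine ⟨⟨E.symm y, (hker _).2 (by rw [E.apply_symm_apply]; exact hy)⟩, Subtype.ext ?_⟩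
    exact E.apply_symm_apply y
  have h5 : Nat.card V ∣ Nat.card (Multiplicative (ZMod n)) :=
    Subgroup.card_dvd_of_surjective (ψ.comp π) (hψ.comp hπ)
  rwa [Nat.card_congr Multiplicative.toAdd, Nat.card_zmod] at h5

variable {X : Type v} [Group X] [Finite X]

theorem md_m11 (h : IsM11 X) : MultDvd.{u} 1 X := multDvd_of Cfsg.Agent.S2034.result (iso_m11 h)

theorem md_m12 (h : IsM12 X) : MultDvd.{u} 2 X := multDvd_of Cfsg.Agent.S2035.result (iso_m12 h)

theorem md_m22 (h : IsM22 X) : MultDvd.{u} 12 X := multDvd_of Cfsg.Agent.S2036.result (iso_m22 h)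

theorem md_m23 (h : IsM23 X) : MultDvd.{u} 1 X := multDvd_of Cfsg.Agent.S2037.result (iso_m23 h)

theorem md_m24 (h : IsM24 X) : MultDvd.{u} 1 X := multDvd_of Cfsg.Agent.S2038.result (iso_m24 h)

theorem md_j1 (h : IsJ1 X) : MultDvd.{u} 1 X := multDvd_of Cfsg.Agent.S2039.result (iso_j1 h)

theorem md_j2 (h : IsJ2 X) : MultDvd.{u} 2 X := multDvd_of Cfsg.Agent.S2040.result (iso_j2 h)

theorem md_j3 (h : IsJ3 X) : MultDvd.{u} 3 X := by
  obtain ⟨F, _, _, ω, hF, hω, e⟩ := iso_j3 h
  exact multDvd_of (Cfsg.Agent.S2041.result hF ω hω) e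

theorem md_j4 (h : IsJ4 X) : MultDvd.{u} 1 X := multDvd_of Cfsg.Agent.S2042.result (iso_j4 h)

theorem md_co1 (h : IsCo1 X) : MultDvd.{u} 2 X := multDvd_of Cfsg.Agent.S2043.result (iso_co1 h)

theorem md_co2 (h : IsCo2 X) : MultDvd.{u} 1 X := multDvd_of Cfsg.Agent.S2044.result (iso_co2 h)

theorem md_co3 (h : IsCo3 X) : MultDvd.{u} 1 X := multDvd_of Cfsg.Agent.S2045.result (iso_co3 h)

theorem md_hs (h : IsHS X) : MultDvd.{u} 2 X := multDvd_of Cfsg.Agent.S2046.result (iso_hs h)

theorem md_mcl (h : IsMcL X) : MultDvd.{u} 3 X := multDvd_of Cfsg.Agent.S2047.result (iso_mcl h)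

theorem md_suz (h : IsSuz X) : MultDvd.{u} 6 X := multDvd_of Cfsg.Agent.S2048.result (iso_suz h)

theorem md_he (h : IsHe X) : MultDvd.{u} 1 X := multDvd_of Cfsg.Agent.S2049.result (iso_he h)

theorem md_ly (h : IsLy X) : MultDvd.{u} 1 X := multDvd_of Cfsg.Agent.S2050.result (iso_ly h)

theorem md_ru (h : IsRu X) : MultDvd.{u} 2 X := multDvd_of Cfsg.Agent.S2051.result (iso_ru h)

theorem md_on (h : IsON X) : MultDvd.{u} 3 X := multDvd_of Cfsg.Agent.S2052.result (iso_on h)

theorem md_fi22 (h : IsFi22 X) : MultDvd.{u} 6 X := multDvd_of Cfsg.Agent.S2053.result (iso_fi22 h)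

theorem md_fi23 (h : IsFi23 X) : MultDvd.{u} 1 X := multDvd_of Cfsg.Agent.S2054.result (iso_fi23 h)

theorem md_fi24 (h : IsFi24' X) : MultDvd.{u} 3 X := multDvd_of Cfsg.Agent.S2055.result (iso_fi24 h)

theorem md_hn (h : IsHN X) : MultDvd.{u} 1 X := multDvd_of Cfsg.Agent.S2056.result (iso_hn h)

theorem md_th (h : IsTh X) : MultDvd.{u} 1 X := multDvd_of Cfsg.Agent.S2057.result (iso_th h)

theorem md_b (h : IsB X) : MultDvd.{u} 2 X := multDvd_of Cfsg.Agent.S2058.result (iso_b h)

theorem md_m (h : IsM X) : MultDvd.{u} 1 X := multDvd_of Cfsg.Agent.S2059.result (iso_m h)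

end Cfsg.Agent.H529.S8
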