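import Cfsg.Agent.H529.S8.Four
import Cfsg.Agent.H529.S8.Mult
import Cfsg.Agent.H50.S8.FrobLem

/-!
# S4908: a row `Row4` from its pieces (helper529)
-/

set_option autoImplicit false

namespace Cfsg.Agent.H529.S8

open Cfsg Cfsg.Agent.H704.S8 Cfsg.Agent.H58.S8

universe u v

/-- the noncentral case from the row `Chief` -/
theorem noNon_of_chief' {X : Type v} [Group X] [Finite X] (hs : IsSimpleGroup X) (h4 : 4 ∣ Nat.card X) {c : ℕ}
    (h1 : 1 ≤ c) (hmo : MO.{u} c X) {D : Set ℕ} (hD : Deg c X D) (hch : Chief.{u} c D X) : NoNon.{u, v} D X :=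
  noNon_of_chief (H529.S8.not_comm h4) h1 hmo.out.le hD hch

/-- the noncentral case from the row `FrobRow` -/
theorem noNon_of_frob {X : Type v} [Group X] [Finite X] (hs : IsSimpleGroup X) (h4 : 4 ∣ Nat.card X) {c : ℕ}
    (h1 : 1 ≤ c) (hmo : MO.{u} c X) {D : Set ℕ} (hD : Deg c X D) (hf : FrobRow c D X) : NoNon.{u, v} D X :=
  noNon_of_chief' hs h4 h1 hmo hD (H50.S8.chief_of_frobRow hf)

/-- the row of a group from the pieces of the board -/
theorem row_of4 {X : Type v} [Group X] [Finite X] {c : ℕ} (hmo : MO.{u} c X)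
    (hne : c = 2 → charDegrees X ≠ charDegrees (MulAut X))
    (hs : ∀ D : Set ℕ, Deg c X D → Solv.{u} D) (h1 : ∀ D : Set ℕ, Deg c X D → Soc1.{u} D X)
    (h2 : ∀ D : Set ℕ, Deg c X D → Soc2.{u} D) (hf : ∀ D : Set ℕ, Deg c X D → NoNon.{u, v} D X)
    (hcov : ∀ D : Set ℕ, Deg c X D → Cover3.{u} c D X) : Row4.{u, v} c X where
  out := ⟨hmo.out.le, hne⟩
  solv := hs
  soc1 := h1
  soc2 := h2
  noncen := hf
  cover := hcov
  mult := fun V _ => hmo.mult V

end Cfsg.Agent.H529.S8
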