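import Cfsg.Agent.H704.S8.Defs
import Cfsg.Agent.H691.AN.Frame
import Cfsg.Agent.H212.AN.Socle
import Cfsg.Agent.H681.SimpleChar

/-!
# S4908: the frame (helper529)

`X` a finite nonabelian simple group with `|Out X| ≤ 2`, `D` the set of degrees of `X` or of `Aut X`. `socle`: the socle of
`G / Sol(G)` is `X`; `frame`: if there is no abelian chief factor below `X` (`NoChief D X`), a finite group `G` with
`charDegrees G = D` has a normal subgroup isomorphic to `X` (`exists_normal`). `deg_of`: the degree sets of the groups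
between `Inn X` and `Aut X`.
-/

set_option autoImplicit false
set_option linter.unusedSectionVars false

namespace Cfsg.Agent.H529.S8

open Cfsg Cfsg.Agent.H704.S8 Cfsg.Agent.H424.DegTools
open Cfsg.Agent.H691.AN (AlmostSimple exists_max_normal exists_equiv map_commutator_eq eq_bot_of_perfect exists_rad
  exists_perfect perfect_le perfect_le_of_solvable)
open Cfsg.Agent.H212.AN (exists_min inf_cent comm_of_degrees)
open scoped commutatorElement

universe u v

/-- there is no abelian chief factor below `X` -/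
def NoChief (D : Set ℕ) (X : Type v) [Group X] : Prop :=
  ∀ {G : Type u} [Group G] [Finite G], charDegrees G ⊆ D → ∀ (N V : Subgroup G) [N.Normal] [V.Normal], V ≤ N →
    ((N ⧸ V.subgroupOf N) ≃* X) → ⁅N, N⁆ = N → ⁅V, V⁆ = ⊥ → V ≠ ⊥ →
    (∀ K : Subgroup G, K.Normal → K ≤ V → K = ⊥ ∨ K = V) → False

/-- **The kernel is trivial.** -/
theorem kernel_trivial {D : Set ℕ} {X : Type v} [Group X] (hNC : NoChief.{u, v} D X) {G : Type u} [Group G] [Finite G]
    (h : charDegrees G ⊆ D) (N M : Subgroup G) [hN : N.Normal] [hM : M.Normal] (hMN : M ≤ N)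
    (e : (N ⧸ M.subgroupOf N) ≃* X) (hperf : ⁅N, N⁆ = N) (hsol : Group.IsSolvable M) : M = ⊥ := by
  by_contra hne
  obtain ⟨K, hK, hKM, hmax⟩ := exists_max_normal hne
  have hsurj := QuotientGroup.mk'_surjective K
  have iM : (M.map (QuotientGroup.mk' K)).Normal := hM.map _ hsurj
  have iN : (N.map (QuotientGroup.mk' K)).Normal := hN.map _ hsurj
  obtain ⟨e'⟩ := exists_equiv (N := N) hKM.le hMN
  have hmne : M.map (QuotientGroup.mk' K) ≠ ⊥ := by
    rw [Ne, Subgroup.map_eq_bot_iff, QuotientGroup.ker_mk']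
    exact fun h1 => hKM.not_ge h1
  have hmin : ∀ L : Subgroup (G ⧸ K), L.Normal → L ≤ M.map (QuotientGroup.mk' K) →
      L = ⊥ ∨ L = M.map (QuotientGroup.mk' K) := by
    intro L hL hLM
    have h1 : K ≤ L.comap (QuotientGroup.mk' K) := by
      intro x hx
      rw [Subgroup.mem_comap, QuotientGroup.mk'_apply, (QuotientGroup.eq_one_iff x).2 hx]
      exact L.one_mem
    have h2 : L.comap (QuotientGroup.mk' K) ≤ M := by
      intro x hx
      obtain ⟨y, hy, hyx⟩ := hLM hx
      have h3 : y⁻¹ * x ∈ K := QuotientGroup.eq.1 hyx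
      have h4 : x = y * (y⁻¹ * x) := by group
      rw [h4]
      exact M.mul_mem hy (hKM.le h3)
    have h5 : L = (L.comap (QuotientGroup.mk' K)).map (QuotientGroup.mk' K) :=
      (Subgroup.map_comap_eq_self_of_surjective hsurj L).symm
    rcases hmax _ (hL.comap _) h1 h2 with h6 | h6
    · left
      rw [h5, h6, Subgroup.map_eq_bot_iff, QuotientGroup.ker_mk']
    · right
      rw [h5, h6]
  refine hNC (G := G ⧸ K) (fun d hd => h (charDegrees_of_surjective (QuotientGroup.mk' K) hsurj hd))
    (N.map (QuotientGroup.mk' K)) (M.map (QuotientGroup.mk' K)) (Subgroup.map_mono hMN) (e'.trans e)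
    (map_commutator_eq _ hperf) ?_ hmne hmin
  -- the chief factor is abelian
  have hsolM : Group.IsSolvable (M.map (QuotientGroup.mk' K)) :=
    Group.isSolvable_of_surjective ((QuotientGroup.mk' K).subgroupMap_surjective M)
  have hcn : (⁅M.map (QuotientGroup.mk' K), M.map (QuotientGroup.mk' K)⁆ : Subgroup (G ⧸ K)).Normal :=
    inferInstance
  rcases hmin _ hcn (Subgroup.commutator_le_right _ _) with h1 | h1
  · exact h1
  · exact absurd (eq_bot_of_perfect h1 hsolM) hmne

/-- a nonabelian simple normal subgroup is isomorphic to `X` -/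
theorem equiv_of_simple {D : Set ℕ} {X : Type v} [Group X] (hC1 : Soc1.{u, v} D X) {Y : Type u} [Group Y] [Finite Y]
    (h : charDegrees Y ⊆ D) {W : Subgroup Y} (hW : W.Normal) (hs : IsSimpleGroup W)
    (hna : ¬ IsMulCommutative W) : Nonempty (W ≃* X) := by
  set C : Subgroup Y := Subgroup.centralizer (W : Set Y) with hC
  have hCn : C.Normal := by rw [hC]; infer_instance
  have hinf : W ⊓ C = ⊥ := inf_cent hs hna
  let f : W →* W.map (QuotientGroup.mk' C) := (QuotientGroup.mk' C).subgroupMap W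
  have hsurj : Function.Surjective f := (QuotientGroup.mk' C).subgroupMap_surjective W
  have hinj : Function.Injective f := by
    rw [injective_iff_map_eq_one]
    intro x hx
    have h1 : (QuotientGroup.mk' C) (x : Y) = 1 := congrArg Subtype.val hx
    have h2 : (x : Y) ∈ C := (QuotientGroup.eq_one_iff _).1 h1
    have h3 : (x : Y) ∈ W ⊓ C := ⟨x.2, h2⟩
    rw [hinf, Subgroup.mem_bot] at h3
    exact Subtype.ext h3
  let e : W ≃* W.map (QuotientGroup.mk' C) := MulEquiv.ofBijective f ⟨hinj, hsurj⟩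
  have hA : AlmostSimple (Y ⧸ C) (W.map (QuotientGroup.mk' C)) := by
    refine ⟨hW.map _ (QuotientGroup.mk'_surjective C), ?_, ?_, ?_⟩
    · have : Nontrivial (W.map (QuotientGroup.mk' C)) := e.symm.toEquiv.nontrivial
      exact IsSimpleGroup.isSimpleGroup_of_surjective (f : W →* _) hsurj
    · intro hc
      apply hna
      refine ⟨⟨fun a b => e.injective ?_⟩⟩
      rw [map_mul, map_mul]
      exact hc.is_comm.comm _ _
    · rw [eq_bot_iff]
      intro x hx
      obtain ⟨y, rfl⟩ := QuotientGroup.mk'_surjective C x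
      rw [Subgroup.mem_bot]
      refine (QuotientGroup.eq_one_iff _).2 ?_
      rw [hC, Subgroup.mem_centralizer_iff]
      intro w hw
      have h1 := Subgroup.mem_centralizer_iff.1 hx _ ⟨w, hw, rfl⟩
      rw [← map_mul, ← map_mul, QuotientGroup.mk'_apply, QuotientGroup.mk'_apply, QuotientGroup.eq] at h1
      -- `(w y)⁻¹ (y w) ∈ C ⊓ W`
      have h2 : (w * y)⁻¹ * (y * w) ∈ W := by
        have h3 : (w * y)⁻¹ * (y * w) = y⁻¹ * w⁻¹ * y * w := by group
        rw [h3]
        refine W.mul_mem ?_ hw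
        have := hW.conj_mem _ (W.inv_mem hw) y⁻¹
        rwa [inv_inv] at this
      have h4 : (w * y)⁻¹ * (y * w) ∈ W ⊓ C := ⟨h2, h1⟩
      rw [hinf, Subgroup.mem_bot, inv_mul_eq_one] at h4
      exact h4
  obtain ⟨e'⟩ := hC1 hA ((charDegrees_of_surjective (QuotientGroup.mk' C) (QuotientGroup.mk'_surjective C)).trans h)
  exact ⟨e.trans e'⟩

/-- a nonabelian simple group has a degree greater than two -/
theorem degrees_two {X : Type v} [Group X] [Finite X] [IsSimpleGroup X] (hX : ¬ IsMulCommutative X)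
    (h : ∀ d ∈ charDegrees X, d ≤ 2) : False := by
  apply hX
  refine ⟨⟨fun a b => comm_of_degrees (fun d hd => ?_) a b⟩⟩
  have h1 := h d hd
  have h2 := pos_of_mem hd
  have h3 : d ≠ 2 := fun h4 => H681.SimpleChar.degree_ne_two (S := X) (fun h5 => hX ⟨⟨h5⟩⟩) (h4 ▸ hd)
  omega

/-- conjugation is injective -/
theorem conj_injective {X : Type v} [Group X] [IsSimpleGroup X] (hX : ¬ IsMulCommutative X) :
    Function.Injective (MulAut.conj : X →* MulAut X) := by
  rw [injective_iff_map_eq_one]
  intro g hg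
  refine H681.SimpleChar.eq_one_of_central (S := X) (fun h => hX ⟨⟨h⟩⟩) fun y => ?_
  have h1 : MulAut.conj g y = y := by rw [hg]; rfl
  rw [MulAut.conj_apply] at h1
  exact mul_inv_eq_iff_eq_mul.1 h1

/-- the degrees of `Inn X` -/
theorem degrees_range {X : Type v} [Group X] [IsSimpleGroup X] (hX : ¬ IsMulCommutative X) :
    charDegrees (MulAut.conj : X →* MulAut X).range = charDegrees X :=
  (charDegrees_congr (MonoidHom.ofInjective (conj_injective hX))).symm

/-- the degrees in `D` are at most twice a degree of `X` -/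
theorem bound {X : Type v} [Group X] [Finite X] [IsSimpleGroup X] (hX : ¬ IsMulCommutative X) {c : ℕ} (hc : c ≤ 2)
    (ho : (MulAut.conj : X →* MulAut X).range.index ≤ c) {D : Set ℕ} (hD : Deg c X D) :
    ∀ d ∈ D, ∃ e ∈ charDegrees X, d ≤ 2 * e := by
  rcases hD with rfl | ⟨-, rfl⟩
  · exact fun d hd => ⟨d, hd, by omega⟩
  · intro d hd
    obtain ⟨e, he, h1, h2⟩ := clifford_down (MulAut.conj : X →* MulAut X).range hd
    have h3 : d / e ≤ 2 :=
      (Nat.le_of_dvd (Nat.pos_of_ne_zero Subgroup.index_ne_zero_of_finite) h2).trans (ho.trans hc)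
    refine ⟨e, (degrees_range hX) ▸ he, ?_⟩
    calc d = d / e * e := (Nat.div_mul_cancel h1).symm
      _ ≤ 2 * e := Nat.mul_le_mul_right _ h3

/-- C3 -/
theorem socle {X : Type v} [Group X] [Finite X] [IsSimpleGroup X] (hX : ¬ IsMulCommutative X) {D : Set ℕ}
    (hb : ∀ d ∈ D, ∃ e ∈ charDegrees X, d ≤ 2 * e) (hC1 : Soc1.{u, v} D X) (hC2 : Soc2.{u} D)
    {Y : Type u} [Group Y] [Finite Y] [Nontrivial Y] (h : charDegrees Y ⊆ D)
    (hrad : ∀ K : Subgroup Y, K.Normal → Group.IsSolvable K → K = ⊥) :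
    ∃ S : Subgroup Y, S.Normal ∧ Nonempty (S ≃* X) ∧ Subgroup.centralizer (S : Set Y) = ⊥ := by
  have hnab : ∀ W : Subgroup Y, W.Normal → W ≠ ⊥ → ¬ IsMulCommutative W := by
    intro W hW hne hc
    exact hne (hrad W hW (Group.isSolvable_of_comm fun a b => hc.is_comm.comm a b))
  have key : ∀ K : Subgroup Y, K.Normal → K ≠ ⊥ → ∃ W : Subgroup Y, W ≤ K ∧ W.Normal ∧ IsSimpleGroup W ∧
      ¬ IsMulCommutative W := by
    intro K hK hne
    obtain ⟨W, hWK, hW, hW0, hmin⟩ := exists_min K hK hne
    exact ⟨W, hWK, hW, hC2 h W hW hW0 hmin (hnab W hW hW0), hnab W hW hW0⟩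
  obtain ⟨W, -, hW, hs, hna⟩ := key ⊤ inferInstance (by
    intro h1
    exact (Subgroup.nontrivial_iff_ne_bot ⊤).1 inferInstance h1)
  obtain ⟨e⟩ := equiv_of_simple hC1 h hW hs hna
  refine ⟨W, hW, ⟨e⟩, ?_⟩
  by_contra hC
  obtain ⟨W', hWC, hW', hs', hna'⟩ := key (Subgroup.centralizer (W : Set Y)) inferInstance hC
  obtain ⟨e'⟩ := equiv_of_simple hC1 h hW' hs' hna'
  have hcomm : ∀ (a : W) (b : W'), Commute (a : Y) (b : Y) := by
    intro a b
    exact Subgroup.mem_centralizer_iff.1 (hWC b.2) a a.2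
  have hinf : W ⊓ W' = ⊥ := by
    rw [eq_bot_iff, ← inf_cent hs hna]
    exact inf_le_inf_left _ hWC
  let f : W × W' →* Y := MonoidHom.noncommCoprod W.subtype W'.subtype hcomm
  have hf : ∀ q : W × W', f q = q.1 * q.2 := fun q => rfl
  have hinj : Function.Injective f := by
    rw [injective_iff_map_eq_one]
    rintro ⟨a, b⟩ hq
    rw [hf] at hq
    have h1 : (a : Y) = (b : Y)⁻¹ := mul_eq_one_iff_eq_inv.1 hq
    have h2 : (a : Y) ∈ W ⊓ W' := ⟨a.2, by rw [h1]; exact W'.inv_mem b.2⟩
    rw [hinf, Subgroup.mem_bot] at h2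
    have h3 : (b : Y) = 1 := by rw [h2, one_mul] at hq; exact hq
    exact Prod.ext (Subtype.ext h2) (Subtype.ext h3)
  have hn : f.range.Normal := by
    refine ⟨?_⟩
    rintro _ ⟨⟨a, b⟩, rfl⟩ g
    refine ⟨⟨⟨g * a * g⁻¹, hW.conj_mem _ a.2 g⟩, ⟨g * b * g⁻¹, hW'.conj_mem _ b.2 g⟩⟩, ?_⟩
    rw [hf, hf]
    change g * a * g⁻¹ * (g * b * g⁻¹) = g * (a * b) * g⁻¹
    group
  -- the largest degree
  have hfin : (charDegrees X).Finite := by
    apply (Set.finite_Iic (Nat.card X)).subset
    intro d hd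
    exact Nat.le_of_dvd Nat.card_pos (dvd_card hd)
  obtain ⟨b, hb'⟩ := hfin.exists_maximal ⟨1, one_mem_degrees⟩
  have hb1 : b * b ∈ charDegrees f.range := by
    rw [← charDegrees_congr (((e.prodCongr e').symm).trans (MonoidHom.ofInjective hinj))]
    exact mul_mem_prod hb'.prop hb'.prop
  obtain ⟨d, hd, hbd, -⟩ := clifford_up f.range hb1
  obtain ⟨c, hc, hdc⟩ := hb d (h hd)
  have hle := Nat.le_of_dvd (pos_of_mem hd) hbd
  have hmax : ∀ x ∈ charDegrees X, x ≤ b := by
    intro x hx
    by_contra hcon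
    push Not at hcon
    exact absurd (hb'.le_of_ge hx hcon.le) (by omega)
  have hcb := hmax c hc
  have hb2 : b ≤ 2 := by nlinarith
  exact degrees_two hX fun x hx => (hmax x hx).trans hb2

/-- `Out S` is solvable -/
theorem out_solvable {X : Type v} [Group X] [Finite X] (h : (MulAut.conj : X →* MulAut X).range.index ≤ 2)
    {S : Type u} [Group S] (e : S ≃* X) : Group.IsSolvable (Cfsg.Out S) := by
  have hfS : Finite S := Finite.of_equiv X e.symm.toEquiv
  let F : MulAut S ≃* MulAut X := MulAut.congr e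
  have h1 : (MulAut.conj : X →* MulAut X).range.comap F.toMonoidHom = (MulAut.conj : S →* MulAut S).range := by
    ext φ
    rw [Subgroup.mem_comap]
    constructor
    · rintro ⟨x, hx⟩
      refine ⟨e.symm x, MulEquiv.ext fun s => ?_⟩
      have h2 := congrArg (fun ψ : MulAut X => ψ (e s)) hx
      have h3 : (F.toMonoidHom φ) (e s) = e (φ s) := by
        change e (φ (e.symm (e s))) = e (φ s)
        rw [MulEquiv.symm_apply_apply]
      change (MulAut.conj x) (e s) = (F.toMonoidHom φ) (e s) at h2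
      rw [h3, MulAut.conj_apply] at h2
      rw [MulAut.conj_apply]
      apply e.injective
      rw [map_mul, map_mul, map_inv, MulEquiv.apply_symm_apply]
      exact h2
    · rintro ⟨s, rfl⟩
      refine ⟨e s, MulEquiv.ext fun x => ?_⟩
      change _ = e ((MulAut.conj s) (e.symm x))
      rw [MulAut.conj_apply, MulAut.conj_apply, map_mul, map_mul, map_inv, MulEquiv.apply_symm_apply]
  have h2 : (MulAut.conj : S →* MulAut S).range.index ≤ 2 := by
    rw [← h1, Subgroup.index_comap_of_surjective _ F.surjective]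
    exact h
  have h3 : Nat.card (Cfsg.Out S) ≤ 2 := h2
  have h4 : 0 < Nat.card (Cfsg.Out S) := Nat.card_pos
  rcases (by omega : Nat.card (Cfsg.Out S) = 1 ∨ Nat.card (Cfsg.Out S) = 2) with h5 | h5
  · have : Subsingleton (Cfsg.Out S) := (Nat.card_eq_one_iff_unique.1 h5).1
    infer_instance
  · have : Fact (Nat.Prime 2) := ⟨Nat.prime_two⟩
    have h6 : IsCyclic (Cfsg.Out S) := isCyclic_of_prime_card h5
    exact Group.isSolvable_of_comm fun a b => by
      obtain ⟨g, hg⟩ := h6.exists_generator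
      obtain ⟨m, rfl⟩ := Subgroup.mem_zpowers_iff.1 (hg a)
      obtain ⟨n, rfl⟩ := Subgroup.mem_zpowers_iff.1 (hg b)
      rw [← zpow_add, ← zpow_add, add_comm]

/-- **The frame.** -/
theorem frame {X : Type v} [Group X] [Finite X] [IsSimpleGroup X] (hX : ¬ IsMulCommutative X) {D : Set ℕ}
    (hns : Solv.{u} D)
    (hsoc : ∀ {Y : Type u} [Group Y] [Finite Y] [Nontrivial Y], charDegrees Y ⊆ D →
      (∀ K : Subgroup Y, K.Normal → Group.IsSolvable K → K = ⊥) →
      ∃ S : Subgroup Y, S.Normal ∧ Nonempty (S ≃* X) ∧ Subgroup.centralizer (S : Set Y) = ⊥)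
    (hout : (MulAut.conj : X →* MulAut X).range.index ≤ 2)
    (hNC : NoChief.{u, v} D X) {G : Type u} [Group G] [Finite G] (h : charDegrees G = D) :
    ∃ N : Subgroup G, ∃ _ : N.Normal, Nonempty (N ≃* X) ∧ Group.IsSolvable (G ⧸ N) ∧ ⁅N, N⁆ = N := by
  obtain ⟨R, iR, hRs, hR⟩ := exists_rad G
  obtain ⟨N, iN, hNs, hNp⟩ := exists_perfect G
  have hsurj := QuotientGroup.mk'_surjective R
  have hnt : Nontrivial (G ⧸ R) := by
    by_contra hcon
    rw [not_nontrivial_iff_subsingleton] at hcon
    have h1 : R = ⊤ := by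
      rw [eq_top_iff]
      intro x _
      exact (QuotientGroup.eq_one_iff x).1 (Subsingleton.elim _ _)
    subst h1
    exact hns (Group.isSolvable_of_isSolvable_injective (f := (Subgroup.topEquiv (G := G)).symm.toMonoidHom)
      (Subgroup.topEquiv (G := G)).symm.injective) h
  obtain ⟨S, iS, ⟨e⟩, hc⟩ := hsoc (Y := G ⧸ R)
    (fun d hd => h ▸ charDegrees_of_surjective (QuotientGroup.mk' R) hsurj hd) hR
  have hsimp : IsSimpleGroup S := e.isSimpleGroup
  have hnab : ¬ IsMulCommutative S := by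
    intro hcc
    apply hX
    refine ⟨⟨fun a b => e.symm.injective ?_⟩⟩
    rw [map_mul, map_mul]
    exact hcc.is_comm.comm _ _
  have hSp : ⁅S, S⁆ = S := by
    have h1 : (commutator S) = ⊤ := by
      rcases hsimp.eq_bot_or_eq_top_of_normal (commutator S) inferInstance with h2 | h2
      · exfalso
        apply hnab
        refine ⟨⟨fun a b => ?_⟩⟩
        have h3 : ⁅a, b⁆ ∈ commutator S := by
          rw [commutator_def]
          exact Subgroup.commutator_mem_commutator (Subgroup.mem_top a) (Subgroup.mem_top b)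
        rw [h2, Subgroup.mem_bot, commutatorElement_eq_one_iff_mul_comm] at h3
        exact h3
      · exact h2
    rw [← Subgroup.map_subtype_commutator, h1, ← MonoidHom.range_eq_map, Subgroup.range_subtype]
  -- the image of `N`
  have iN' : (N.map (QuotientGroup.mk' R)).Normal := iN.map _ hsurj
  have himg : N.map (QuotientGroup.mk' R) = S := by
    apply le_antisymm
    · exact perfect_le hc (out_solvable hout e) (map_commutator_eq _ hNp)
    · have h1 : Group.IsSolvable ((G ⧸ R) ⧸ N.map (QuotientGroup.mk' R)) := by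
        let g : G ⧸ N →* ((G ⧸ R) ⧸ N.map (QuotientGroup.mk' R)) :=
          QuotientGroup.map N (N.map (QuotientGroup.mk' R)) (QuotientGroup.mk' R) (Subgroup.le_comap_map _ _)
        have hg : Function.Surjective g := by
          intro x
          obtain ⟨y, rfl⟩ := QuotientGroup.mk_surjective x
          obtain ⟨z, rfl⟩ := QuotientGroup.mk_surjective y
          exact ⟨QuotientGroup.mk z, rfl⟩
        exact Group.isSolvable_of_surjective hg
      exact perfect_le_of_solvable h1 hSp
  -- the quotient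
  have hMN : N ⊓ R ≤ N := inf_le_left
  have e1 : Nonempty ((N ⧸ (N ⊓ R).subgroupOf N) ≃* S) := by
    let f : N →* N.map (QuotientGroup.mk' R) := (QuotientGroup.mk' R).subgroupMap N
    have hf : Function.Surjective f := (QuotientGroup.mk' R).subgroupMap_surjective N
    have hker : f.ker = (N ⊓ R).subgroupOf N := by
      ext x
      rw [MonoidHom.mem_ker, Subgroup.mem_subgroupOf, Subgroup.mem_inf, Subtype.ext_iff]
      change (QuotientGroup.mk' R) (x : G) = 1 ↔ _
      rw [QuotientGroup.mk'_apply, QuotientGroup.eq_one_iff]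
      exact ⟨fun h => ⟨x.2, h⟩, fun h => h.2⟩
    exact ⟨((QuotientGroup.quotientMulEquivOfEq hker).symm.trans
      (QuotientGroup.quotientKerEquivOfSurjective f hf)).trans (MulEquiv.subgroupCongr himg)⟩
  obtain ⟨e1⟩ := e1
  have hMs : Group.IsSolvable (N ⊓ R : Subgroup G) :=
    Group.isSolvable_of_isSolvable_injective (f := Subgroup.inclusion (inf_le_right : N ⊓ R ≤ R))
      (Subgroup.inclusion_injective _)
  have hM : N ⊓ R = ⊥ := kernel_trivial hNC h.le N (N ⊓ R) hMN (e1.trans e) hNp hMs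
  refine ⟨N, iN, ?_, hNs, hNp⟩
  have h5 : (N ⊓ R).subgroupOf N = ⊥ := by rw [hM, Subgroup.bot_subgroupOf]
  exact ⟨((QuotientGroup.quotientBot.symm.trans (QuotientGroup.quotientMulEquivOfEq h5.symm)).trans e1).trans e⟩

/-- the subgroups of `Aut X` above `Inn X` have degree set `D` with `Deg c X D` -/
theorem deg_of {X : Type v} [Group X] [Finite X] [IsSimpleGroup X] (hX : ¬ IsMulCommutative X) {c : ℕ} (hc : c ≤ 2)
    (ho : (MulAut.conj : X →* MulAut X).range.index ≤ c) (H : Subgroup (MulAut X))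
    (hH : (MulAut.conj : X →* MulAut X).range ≤ H) :
    Deg c X (charDegrees H) := by
  have h1 : (MulAut.conj : X →* MulAut X).range.index = (MulAut.conj : X →* MulAut X).range.relIndex H * H.index :=
    (Subgroup.relIndex_mul_index hH).symm
  have h2 : (MulAut.conj : X →* MulAut X).range.index ≠ 0 := Subgroup.index_ne_zero_of_finite
  have h3 := ho
  have h4 : (MulAut.conj : X →* MulAut X).range.relIndex H ≠ 0 := fun h => h2 (by rw [h1, h, zero_mul])
  have h5 : H.index ≠ 0 := fun h => h2 (by rw [h1, h, mul_zero])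
  by_cases h6 : (MulAut.conj : X →* MulAut X).range.relIndex H = 1
  · left
    have h7 : H = (MulAut.conj : X →* MulAut X).range := le_antisymm (Subgroup.relIndex_eq_one.1 h6) hH
    rw [h7]
    exact degrees_range hX
  · right
    have h7 : 2 ≤ (MulAut.conj : X →* MulAut X).range.relIndex H := by omega
    have h8 : H.index = 1 := by
      by_contra hcon
      have h9 : 2 ≤ H.index := by omega
      have h10 : 2 * 2 ≤ (MulAut.conj : X →* MulAut X).range.relIndex H * H.index := Nat.mul_le_mul h7 h9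
      omega
    have h9 : c = 2 := by
      rw [h8, mul_one] at h1
      omega
    refine ⟨h9, ?_⟩
    have h10 : H = ⊤ := Subgroup.index_eq_one.1 h8
    rw [h10]
    exact charDegrees_congr Subgroup.topEquiv

/-- **The frame for S4908**: a group with the degrees of an almost simple group with socle `X` has a normal subgroup
isomorphic to `X`. -/
theorem exists_normal {X : Type v} [Group X] [Finite X] [IsSimpleGroup X] (hX : ¬ IsMulCommutative X) {c : ℕ}
    (hc : c ≤ 2) (ho : (MulAut.conj : X →* MulAut X).range.index ≤ c) {D : Set ℕ} (hD : Deg c X D) (hs : Solv.{u} D)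
    (h1 : Soc1.{u, v} D X)
    (h2 : Soc2.{u} D) (hNC : NoChief.{u, v} D X) {G : Type u} [Group G] [Finite G] (h : charDegrees G = D) :
    ∃ N : Subgroup G, ∃ _ : N.Normal, Nonempty (N ≃* X) := by
  obtain ⟨N, iN, e, -, -⟩ := frame hX hs (fun h hrad => socle hX (bound hX hc ho hD) h1 h2 h hrad)
    (ho.trans hc) hNC h
  exact ⟨N, iN, e⟩

end Cfsg.Agent.H529.S8
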