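import Cfsg.Agent.H529.S8.Frame
import Cfsg.Agent.H704.S8.Defs3
import Cfsg.Agent.H211.S8.Nc

/-!
# S4908: the main argument (helper529)

`noChief_of`: no abelian chief factor below `X`, from `Chief` (helper211's `noncentral`) and the central case. `main`: the
theorem for one group `X` from `Row3 c X`. `of_rows`: the theorem from the 26 rows.
-/

set_option autoImplicit false

namespace Cfsg.Agent.H529.S8

open Cfsg Cfsg.Agent.H704.S8
open scoped commutatorElement

universe u v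

/-- the central case: no central chief factor below `X` -/
def NoCentral (D : Set ℕ) (X : Type v) [Group X] : Prop :=
  ∀ {G : Type u} [Group G] [Finite G], charDegrees G ⊆ D → ∀ (N V : Subgroup G) [N.Normal] [V.Normal], V ≤ N →
    ((N ⧸ V.subgroupOf N) ≃* X) → ⁅N, N⁆ = N → V ≠ ⊥ →
    (∀ K : Subgroup G, K.Normal → K ≤ V → K = ⊥ ∨ K = V) → (∀ v ∈ V, ∀ n ∈ N, v * n = n * v) → False

/-- the end: `N = X` is normal in `G` -/
def Ending (X : Type v) [Group X] : Prop :=
  ∀ H : Subgroup (MulAut X), (MulAut.conj : X →* MulAut X).range ≤ H → ∀ {G : Type u} [Group G] [Finite G],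
    charDegrees G = charDegrees H → ∀ (N : Subgroup G) [N.Normal], (N ≃* X) →
    Nonempty (commutator G ≃* X) ∧ Nonempty (G ⧸ Subgroup.center G ≃* H)

theorem noChief_of {X : Type v} [Group X] [Finite X] {c : ℕ} {D : Set ℕ} (hD0 : ∀ d ∈ D, 0 < d)
    (hsq : ∀ d ∈ D, d ^ 2 < c * Nat.card X) (hch : Chief.{u} c D X) (hcen : NoCentral.{u, v} D X) :
    NoChief.{u, v} D X := by
  intro G _ _ h N V _ _ hVN e hN hV hne hmin
  rcases hmin ⁅V, N⁆ inferInstance (Subgroup.commutator_le_left V N) with h1 | h1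
  · refine hcen h N V hVN e hN hne hmin fun v hv n hn => ?_
    have h2 := Subgroup.commutator_mem_commutator hv hn
    rw [h1, Subgroup.mem_bot, commutatorElement_eq_one_iff_mul_comm] at h2
    exact h2
  · exact H211.S8.noncentral hD0 hsq hch h N V hVN e hV hne h1

/-- **The theorem for one group.** -/
theorem main {X : Type v} [Group X] [Finite X] [IsSimpleGroup X] (hX : ¬ IsMulCommutative X) {c : ℕ} (h1 : 1 ≤ c)
    (hc : c ≤ 2) (R : Row3.{u} c X) (hcen : ∀ D : Set ℕ, Deg c X D → NoCentral.{u, v} D X) (hend : Ending.{u, v} X)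
    (H : Subgroup (MulAut X)) (hH : (MulAut.conj : X →* MulAut X).range ≤ H) {G : Type u} [Group G] [Finite G]
    (h : charDegrees G = charDegrees H) :
    Nonempty (commutator G ≃* X) ∧ Nonempty (G ⧸ Subgroup.center G ≃* H) := by
  have hD := deg_of hX hc R.out.1 H hH
  obtain ⟨N, iN, ⟨e⟩⟩ := exists_normal hX hc R.out.1 hD (R.solv _ hD) (R.soc1 _ hD) (R.soc2 _ hD)
    (noChief_of (H211.S8.deg_pos hD) (H211.S8.deg_sq hX h1 R.out.1 hD) (R.chief _ hD) (hcen _ hD)) h
  exact hend H hH h N e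

/-- the 26 rows -/
structure Rows : Prop where
  m11 : ∀ {X : Type v} [Group X] [Finite X], IsM11 X → Row3.{u, v} 1 X
  m12 : ∀ {X : Type v} [Group X] [Finite X], IsM12 X → Row3.{u, v} 2 X
  m22 : ∀ {X : Type v} [Group X] [Finite X], IsM22 X → Row3.{u, v} 2 X
  m23 : ∀ {X : Type v} [Group X] [Finite X], IsM23 X → Row3.{u, v} 1 X
  m24 : ∀ {X : Type v} [Group X] [Finite X], IsM24 X → Row3.{u, v} 1 X
  j1 : ∀ {X : Type v} [Group X] [Finite X], IsJ1 X → Row3.{u, v} 1 X
  j2 : ∀ {X : Type v} [Group X] [Finite X], IsJ2 X → Row3.{u, v} 2 X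
  j3 : ∀ {X : Type v} [Group X] [Finite X], IsJ3 X → Row3.{u, v} 2 X
  j4 : ∀ {X : Type v} [Group X] [Finite X], IsJ4 X → Row3.{u, v} 1 X
  co1 : ∀ {X : Type v} [Group X] [Finite X], IsCo1 X → Row3.{u, v} 1 X
  co2 : ∀ {X : Type v} [Group X] [Finite X], IsCo2 X → Row3.{u, v} 1 X
  co3 : ∀ {X : Type v} [Group X] [Finite X], IsCo3 X → Row3.{u, v} 1 X
  fi22 : ∀ {X : Type v} [Group X] [Finite X], IsFi22 X → Row3.{u, v} 2 X
  fi23 : ∀ {X : Type v} [Group X] [Finite X], IsFi23 X → Row3.{u, v} 1 X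
  fi24 : ∀ {X : Type v} [Group X] [Finite X], IsFi24' X → Row3.{u, v} 2 X
  hs : ∀ {X : Type v} [Group X] [Finite X], IsHS X → Row3.{u, v} 2 X
  mcl : ∀ {X : Type v} [Group X] [Finite X], IsMcL X → Row3.{u, v} 2 X
  he : ∀ {X : Type v} [Group X] [Finite X], IsHe X → Row3.{u, v} 2 X
  ru : ∀ {X : Type v} [Group X] [Finite X], IsRu X → Row3.{u, v} 1 X
  suz : ∀ {X : Type v} [Group X] [Finite X], IsSuz X → Row3.{u, v} 2 X
  on : ∀ {X : Type v} [Group X] [Finite X], IsON X → Row3.{u, v} 2 X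
  hn : ∀ {X : Type v} [Group X] [Finite X], IsHN X → Row3.{u, v} 2 X
  ly : ∀ {X : Type v} [Group X] [Finite X], IsLy X → Row3.{u, v} 1 X
  th : ∀ {X : Type v} [Group X] [Finite X], IsTh X → Row3.{u, v} 1 X
  b : ∀ {X : Type v} [Group X] [Finite X], IsB X → Row3.{u, v} 1 X
  m : ∀ {X : Type v} [Group X] [Finite X], IsM X → Row3.{u, v} 1 X

/-- a simple group of order divisible by four is not commutative -/
theorem not_comm {X : Type v} [Group X] [hs : IsSimpleGroup X] (h4 : 4 ∣ Nat.card X) : ¬ IsMulCommutative X := by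
  intro h
  have h1 := (Group.is_simple_iff_prime_card (α := X)).1 hs
  have h2 : 2 ∣ Nat.card X := (by norm_num : 2 ∣ 4).trans h4
  have h3 := (Nat.prime_dvd_prime_iff_eq Nat.prime_two h1).1 h2
  rw [← h3] at h4
  omega

/-- **S4908, from the rows.** -/
theorem of_rows (R : Rows.{u, v})
    (hcen : ∀ {X : Type v} [Group X] [Finite X] [IsSimpleGroup X], ¬ IsMulCommutative X → ∀ {c : ℕ}, 1 ≤ c → c ≤ 2 →
      Row3.{u, v} c X → ∀ D : Set ℕ, Deg c X D → NoCentral.{u, v} D X)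
    (hend : ∀ {X : Type v} [Group X] [Finite X] [IsSimpleGroup X], ¬ IsMulCommutative X → ∀ {c : ℕ}, c ≤ 2 →
      OutRow3 c X → Ending.{u, v} X)
    {H₀ : Type v} [Group H₀] [Finite H₀] (hH₀ : Cfsg.IsSporadic H₀) (H : Subgroup (MulAut H₀))
    (hH : (MulAut.conj : H₀ →* MulAut H₀).range ≤ H) {G : Type u} [Group G] [Finite G]
    (h : charDegrees G = charDegrees H) :
    Nonempty (commutator G ≃* H₀) ∧ Nonempty (G ⧸ Subgroup.center G ≃* H) := by
  have key : ∀ c : ℕ, 1 ≤ c → c ≤ 2 → Row3.{u, v} c H₀ → IsSimpleGroup H₀ → 4 ∣ Nat.card H₀ →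
      Nonempty (commutator G ≃* H₀) ∧ Nonempty (G ⧸ Subgroup.center G ≃* H) := by
    intro c h1 h2 hR hs h4
    have hX := not_comm h4
    exact main hX h1 h2 hR (hcen hX h1 h2 hR) (hend hX h2 hR.out) H hH h
  rcases hH₀ with h0 | h0 | h0 | h0 | h0 | h0 | h0 | h0 | h0 | h0 | h0 | h0 | h0 |
    h0 | h0 | h0 | h0 | h0 | h0 | h0 | h0 | h0 | h0 | h0 | h0 | h0
  · exact key 1 (by norm_num) (by norm_num) (R.m11 h0) h0.1 (by rw [h0.2]; norm_num)
  · exact key 2 (by norm_num) (by norm_num) (R.m12 h0) h0.1 (by rw [h0.2]; norm_num)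
  · exact key 2 (by norm_num) (by norm_num) (R.m22 h0) h0.1 (by rw [h0.2]; norm_num)
  · exact key 1 (by norm_num) (by norm_num) (R.m23 h0) h0.1 (by rw [h0.2]; norm_num)
  · exact key 1 (by norm_num) (by norm_num) (R.m24 h0) h0.1 (by rw [h0.2]; norm_num)
  · exact key 1 (by norm_num) (by norm_num) (R.j1 h0) h0.1 (by rw [h0.2]; norm_num)
  · exact key 2 (by norm_num) (by norm_num) (R.j2 h0) h0.1 (by rw [h0.2]; norm_num)
  · exact key 2 (by norm_num) (by norm_num) (R.j3 h0) h0.1 (by rw [h0.2]; norm_num)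
  · exact key 1 (by norm_num) (by norm_num) (R.j4 h0) h0.1 (by rw [h0.2]; norm_num)
  · exact key 1 (by norm_num) (by norm_num) (R.co1 h0) h0.1 (by rw [h0.2]; norm_num)
  · exact key 1 (by norm_num) (by norm_num) (R.co2 h0) h0.1 (by rw [h0.2]; norm_num)
  · exact key 1 (by norm_num) (by norm_num) (R.co3 h0) h0.1 (by rw [h0.2]; norm_num)
  · exact key 2 (by norm_num) (by norm_num) (R.fi22 h0) h0.1 (by rw [h0.2]; norm_num)
  · exact key 1 (by norm_num) (by norm_num) (R.fi23 h0) h0.1 (by rw [h0.2]; norm_num)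
  · exact key 2 (by norm_num) (by norm_num) (R.fi24 h0) h0.1 (by rw [h0.2]; norm_num)
  · exact key 2 (by norm_num) (by norm_num) (R.hs h0) h0.1 (by rw [h0.2]; norm_num)
  · exact key 2 (by norm_num) (by norm_num) (R.mcl h0) h0.1 (by rw [h0.2]; norm_num)
  · exact key 2 (by norm_num) (by norm_num) (R.he h0) h0.1 (by rw [h0.2]; norm_num)
  · exact key 1 (by norm_num) (by norm_num) (R.ru h0) h0.1 (by rw [h0.2]; norm_num)
  · exact key 2 (by norm_num) (by norm_num) (R.suz h0) h0.1 (by rw [h0.2]; norm_num)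
  · exact key 2 (by norm_num) (by norm_num) (R.on h0) h0.1 (by rw [h0.2]; norm_num)
  · exact key 2 (by norm_num) (by norm_num) (R.hn h0) h0.1 (by rw [h0.2]; norm_num)
  · exact key 1 (by norm_num) (by norm_num) (R.ly h0) h0.1 (by rw [h0.2]; norm_num)
  · exact key 1 (by norm_num) (by norm_num) (R.th h0) h0.1 (by rw [h0.2]; norm_num)
  · exact key 1 (by norm_num) (by norm_num) (R.b h0) h0.1 (by rw [h0.2]; norm_num)
  · exact key 1 (by norm_num) (by norm_num) (R.m h0) h0.1 (by rw [h0.2]; norm_num)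

end Cfsg.Agent.H529.S8
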