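import Cfsg.Agent.S0000
import Cfsg.Agent.OrdDiv.Table
import Cfsg.Agent.H940.EngData
import Cfsg.Agent.H995.CopCoprime

/-!
# S4908: the classification in the forms used by the rows (helper529)
-/

set_option autoImplicit false

namespace Cfsg.Agent.H529.S8

open Cfsg

universe u

theorem base : H940.Eng.Base := ⟨OrdDiv.table, fun _ _ _ _ => S0000.result⟩

theorem allKnown : H995.CopEngine.AllKnown.{u} := fun _ _ _ _ => S0000.result

end Cfsg.Agent.H529.S8
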