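import Cfsg.Agent.H704.S8.Defs3
import Cfsg.Agent.H424.DegTools

/-!
# S4908: the rows are invariant under isomorphisms (helper529)
-/

set_option autoImplicit false

namespace Cfsg.Agent.H529.S8

open Cfsg Cfsg.Agent.H704.S8 Cfsg.Agent.H424.DegTools

universe u v w

variable {X : Type v} [Group X] {Y : Type w} [Group Y] (e : X ≃* Y)

include e

/-- the degrees of the automorphism groups -/
theorem degAut_congr : charDegrees (MulAut X) = charDegrees (MulAut Y) := charDegrees_congr (MulAut.congr e)

theorem deg_congr {c : ℕ} {D : Set ℕ} (h : Deg c X D) : Deg c Y D := by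
  rcases h with rfl | ⟨h1, rfl⟩
  · exact Or.inl (charDegrees_congr e)
  · exact Or.inr ⟨h1, degAut_congr e⟩

theorem soc1_congr {D : Set ℕ} (h : Soc1.{u, w} D Y) : Soc1.{u, v} D X := by
  intro A _ _ S hA hD
  obtain ⟨f⟩ := h hA hD
  exact ⟨f.trans e.symm⟩

theorem card_classes_congr : Nat.card (ConjClasses X) = Nat.card (ConjClasses Y) :=
  Nat.card_congr
    { toFun := ConjClasses.map e.toMonoidHom
      invFun := ConjClasses.map e.symm.toMonoidHom
      left_inv := by
        intro b
        obtain ⟨a, rfl⟩ := ConjClasses.exists_rep b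
        change ConjClasses.mk (e.symm (e a)) = ConjClasses.mk a
        rw [MulEquiv.symm_apply_apply]
      right_inv := by
        intro b
        obtain ⟨a, rfl⟩ := ConjClasses.exists_rep b
        change ConjClasses.mk (e (e.symm a)) = ConjClasses.mk a
        rw [MulEquiv.apply_symm_apply] }

theorem cover3_congr {c : ℕ} {D : Set ℕ} (h : Cover3.{u, w} c D Y) : Cover3.{u, v} c D X := by
  intro N _ _ V _ r hr hV hc hp hX i hi
  obtain ⟨f⟩ := hX
  rw [card_classes_congr e] at hi
  rw [degAut_congr e]
  exact h V r hr hV hc hp ⟨f.trans e⟩ i hi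

theorem ne_congr (h : charDegrees Y ≠ charDegrees (MulAut Y)) : charDegrees X ≠ charDegrees (MulAut X) := by
  rw [degAut_congr e, charDegrees_congr e]
  exact h

end Cfsg.Agent.H529.S8
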