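import Cfsg.Agent.H529.S8.Main
import Cfsg.Agent.H515.S8.Ending3
import Cfsg.Agent.H595.SD.Central3

/-!
# S4908: the assembly with the weakest form of the noncentral case (helper529)

`NoNon D X`: no noncentral abelian chief factor below `X` (the conclusion of `H211.S8.noncentral`). `Row4`: `Row3` with
`NoNon` instead of `Chief`. `final4`: the theorem from the 26 rows `Row4`.
-/

set_option autoImplicit false

namespace Cfsg.Agent.H529.S8

open Cfsg Cfsg.Agent.H704.S8
open scoped commutatorElement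

universe u v

/-- no noncentral abelian chief factor below `X` -/
def NoNon (D : Set ℕ) (X : Type v) [Group X] : Prop :=
  ∀ {G : Type u} [Group G] [Finite G], charDegrees G ⊆ D → ∀ (N V : Subgroup G) [N.Normal] [V.Normal], V ≤ N →
    ((N ⧸ V.subgroupOf N) ≃* X) → ⁅V, V⁆ = ⊥ → V ≠ ⊥ → ⁅V, N⁆ = V → False

/-- the noncentral case from `Chief` -/
theorem noNon_of_chief {X : Type v} [Group X] [Finite X] [IsSimpleGroup X] (hX : ¬ IsMulCommutative X) {c : ℕ}
    (h1 : 1 ≤ c) (ho : (MulAut.conj : X →* MulAut X).range.index ≤ c) {D : Set ℕ} (hD : Deg c X D)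
    (hch : Chief.{u} c D X) : NoNon.{u, v} D X := by
  intro G _ _ h N V _ _ hVN e hV hne hVN'
  exact H211.S8.noncentral (H211.S8.deg_pos hD) (H211.S8.deg_sq hX h1 ho hD) hch h N V hVN e hV hne hVN'

/-- everything about one sporadic group -/
structure Row4 (c : ℕ) (X : Type v) [Group X] : Prop where
  out : OutRow3 c X
  solv : ∀ D : Set ℕ, Deg c X D → Solv.{u} D
  soc1 : ∀ D : Set ℕ, Deg c X D → Soc1.{u} D X
  soc2 : ∀ D : Set ℕ, Deg c X D → Soc2.{u} D
  noncen : ∀ D : Set ℕ, Deg c X D → NoNon.{u, v} D X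
  cover : ∀ D : Set ℕ, Deg c X D → Cover3.{u} c D X
  mult : ∀ {N : Type u} [Group N] [Finite N] (V : Subgroup N) [V.Normal], V ≤ Subgroup.center N → commutator N = ⊤ →
    Nonempty ((N ⧸ V) ≃* X) → IsCyclic V

theorem _root_.Cfsg.Agent.H704.S8.Row3.four {X : Type v} [Group X] [Finite X] [IsSimpleGroup X]
    (hX : ¬ IsMulCommutative X) {c : ℕ} (h1 : 1 ≤ c) (R : Row3.{u} c X) : Row4.{u, v} c X where
  out := R.out
  solv := R.solv
  soc1 := R.soc1
  soc2 := R.soc2
  noncen := fun D hD => noNon_of_chief hX h1 R.out.1 hD (R.chief D hD)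
  cover := R.cover
  mult := fun V _ => R.mult V

theorem noChief_of_non {X : Type v} [Group X] {D : Set ℕ} (hnon : NoNon.{u, v} D X) (hcen : NoCentral.{u, v} D X) :
    NoChief.{u, v} D X := by
  intro G _ _ h N V _ _ hVN e hN hV hne hmin
  rcases hmin ⁅V, N⁆ inferInstance (Subgroup.commutator_le_left V N) with h1 | h1
  · refine hcen h N V hVN e hN hne hmin fun v hv n hn => ?_
    have h2 := Subgroup.commutator_mem_commutator hv hn
    rw [h1, Subgroup.mem_bot, commutatorElement_eq_one_iff_mul_comm] at h2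
    exact h2
  · exact hnon h N V hVN e hV hne h1

/-- **The theorem for one group.** -/
theorem main4 {X : Type v} [Group X] [Finite X] [IsSimpleGroup X] (hX : ¬ IsMulCommutative X) {c : ℕ} (h1 : 1 ≤ c)
    (hc : c ≤ 2) (R : Row4.{u, v} c X) (H : Subgroup (MulAut X)) (hH : (MulAut.conj : X →* MulAut X).range ≤ H)
    {G : Type u} [Group G] [Finite G] (h : charDegrees G = charDegrees H) :
    Nonempty (commutator G ≃* X) ∧ Nonempty (G ⧸ Subgroup.center G ≃* H) := by
  have hD := deg_of hX hc R.out.1 H hH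
  obtain ⟨N, iN, ⟨e⟩⟩ := exists_normal hX hc R.out.1 hD (R.solv _ hD) (R.soc1 _ hD) (R.soc2 _ hD)
    (noChief_of_non (R.noncen _ hD)
      (H595.SD.central3 hX h1 hc R.out.1 hD (R.cover _ hD) (fun V _ h1 h2 h3 => R.mult V h1 h2 h3))) h
  exact H515.S8.ending3 hX hc R.out H hH h N e

/-- the 26 rows -/
structure Rows4 : Prop where
  m11 : ∀ {X : Type v} [Group X] [Finite X], IsM11 X → Row4.{u, v} 1 X
  m12 : ∀ {X : Type v} [Group X] [Finite X], IsM12 X → Row4.{u, v} 2 X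
  m22 : ∀ {X : Type v} [Group X] [Finite X], IsM22 X → Row4.{u, v} 2 X
  m23 : ∀ {X : Type v} [Group X] [Finite X], IsM23 X → Row4.{u, v} 1 X
  m24 : ∀ {X : Type v} [Group X] [Finite X], IsM24 X → Row4.{u, v} 1 X
  j1 : ∀ {X : Type v} [Group X] [Finite X], IsJ1 X → Row4.{u, v} 1 X
  j2 : ∀ {X : Type v} [Group X] [Finite X], IsJ2 X → Row4.{u, v} 2 X
  j3 : ∀ {X : Type v} [Group X] [Finite X], IsJ3 X → Row4.{u, v} 2 X
  j4 : ∀ {X : Type v} [Group X] [Finite X], IsJ4 X → Row4.{u, v} 1 X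
  co1 : ∀ {X : Type v} [Group X] [Finite X], IsCo1 X → Row4.{u, v} 1 X
  co2 : ∀ {X : Type v} [Group X] [Finite X], IsCo2 X → Row4.{u, v} 1 X
  co3 : ∀ {X : Type v} [Group X] [Finite X], IsCo3 X → Row4.{u, v} 1 X
  fi22 : ∀ {X : Type v} [Group X] [Finite X], IsFi22 X → Row4.{u, v} 2 X
  fi23 : ∀ {X : Type v} [Group X] [Finite X], IsFi23 X → Row4.{u, v} 1 X
  fi24 : ∀ {X : Type v} [Group X] [Finite X], IsFi24' X → Row4.{u, v} 2 X
  hs : ∀ {X : Type v} [Group X] [Finite X], IsHS X → Row4.{u, v} 2 X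
  mcl : ∀ {X : Type v} [Group X] [Finite X], IsMcL X → Row4.{u, v} 2 X
  he : ∀ {X : Type v} [Group X] [Finite X], IsHe X → Row4.{u, v} 2 X
  ru : ∀ {X : Type v} [Group X] [Finite X], IsRu X → Row4.{u, v} 1 X
  suz : ∀ {X : Type v} [Group X] [Finite X], IsSuz X → Row4.{u, v} 2 X
  on : ∀ {X : Type v} [Group X] [Finite X], IsON X → Row4.{u, v} 2 X
  hn : ∀ {X : Type v} [Group X] [Finite X], IsHN X → Row4.{u, v} 2 X
  ly : ∀ {X : Type v} [Group X] [Finite X], IsLy X → Row4.{u, v} 1 X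
  th : ∀ {X : Type v} [Group X] [Finite X], IsTh X → Row4.{u, v} 1 X
  b : ∀ {X : Type v} [Group X] [Finite X], IsB X → Row4.{u, v} 1 X
  m : ∀ {X : Type v} [Group X] [Finite X], IsM X → Row4.{u, v} 1 X

/-- **S4908, from the rows.** -/
theorem final4 (R : Rows4.{u, v}) {H₀ : Type v} [Group H₀] [Finite H₀] (hH₀ : Cfsg.IsSporadic H₀)
    (H : Subgroup (MulAut H₀)) (hH : (MulAut.conj : H₀ →* MulAut H₀).range ≤ H) {G : Type u} [Group G] [Finite G]
    (h : charDegrees G = charDegrees H) :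
    Nonempty (commutator G ≃* H₀) ∧ Nonempty (G ⧸ Subgroup.center G ≃* H) := by
  have key : ∀ c : ℕ, 1 ≤ c → c ≤ 2 → Row4.{u, v} c H₀ → IsSimpleGroup H₀ → 4 ∣ Nat.card H₀ →
      Nonempty (commutator G ≃* H₀) ∧ Nonempty (G ⧸ Subgroup.center G ≃* H) := by
    intro c h1 h2 hR hs h4
    exact main4 (not_comm h4) h1 h2 hR H hH h
  rcases hH₀ with h0 | h0 | h0 | h0 | h0 | h0 | h0 | h0 | h0 | h0 | h0 | h0 | h0 |
    h0 | h0 | h0 | h0 | h0 | h0 | h0 | h0 | h0 | h0 | h0 | h0 | h0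
  · exact key 1 (by norm_num) (by norm_num) (R.m11 h0) h0.1 (by rw [h0.2]; norm_num)
  · exact key 2 (by norm_num) (by norm_num) (R.m12 h0) h0.1 (by rw [h0.2]; norm_num)
  · exact key 2 (by norm_num) (by norm_num) (R.m22 h0) h0.1 (by rw [h0.2]; norm_num)
  · exact key 1 (by norm_num) (by norm_num) (R.m23 h0) h0.1 (by rw [h0.2]; norm_num)
  · exact key 1 (by norm_num) (by norm_num) (R.m24 h0) h0.1 (by rw [h0.2]; norm_num)
  · exact key 1 (by norm_num) (by norm_num) (R.j1 h0) h0.1 (by rw [h0.2]; norm_num)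
  · exact key 2 (by norm_num) (by norm_num) (R.j2 h0) h0.1 (by rw [h0.2]; norm_num)
  · exact key 2 (by norm_num) (by norm_num) (R.j3 h0) h0.1 (by rw [h0.2]; norm_num)
  · exact key 1 (by norm_num) (by norm_num) (R.j4 h0) h0.1 (by rw [h0.2]; norm_num)
  · exact key 1 (by norm_num) (by norm_num) (R.co1 h0) h0.1 (by rw [h0.2]; norm_num)
  · exact key 1 (by norm_num) (by norm_num) (R.co2 h0) h0.1 (by rw [h0.2]; norm_num)
  · exact key 1 (by norm_num) (by norm_num) (R.co3 h0) h0.1 (by rw [h0.2]; norm_num)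
  · exact key 2 (by norm_num) (by norm_num) (R.fi22 h0) h0.1 (by rw [h0.2]; norm_num)
  · exact key 1 (by norm_num) (by norm_num) (R.fi23 h0) h0.1 (by rw [h0.2]; norm_num)
  · exact key 2 (by norm_num) (by norm_num) (R.fi24 h0) h0.1 (by rw [h0.2]; norm_num)
  · exact key 2 (by norm_num) (by norm_num) (R.hs h0) h0.1 (by rw [h0.2]; norm_num)
  · exact key 2 (by norm_num) (by norm_num) (R.mcl h0) h0.1 (by rw [h0.2]; norm_num)
  · exact key 2 (by norm_num) (by norm_num) (R.he h0) h0.1 (by rw [h0.2]; norm_num)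
  · exact key 1 (by norm_num) (by norm_num) (R.ru h0) h0.1 (by rw [h0.2]; norm_num)
  · exact key 2 (by norm_num) (by norm_num) (R.suz h0) h0.1 (by rw [h0.2]; norm_num)
  · exact key 2 (by norm_num) (by norm_num) (R.on h0) h0.1 (by rw [h0.2]; norm_num)
  · exact key 2 (by norm_num) (by norm_num) (R.hn h0) h0.1 (by rw [h0.2]; norm_num)
  · exact key 1 (by norm_num) (by norm_num) (R.ly h0) h0.1 (by rw [h0.2]; norm_num)
  · exact key 1 (by norm_num) (by norm_num) (R.th h0) h0.1 (by rw [h0.2]; norm_num)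
  · exact key 1 (by norm_num) (by norm_num) (R.b h0) h0.1 (by rw [h0.2]; norm_num)
  · exact key 1 (by norm_num) (by norm_num) (R.m h0) h0.1 (by rw [h0.2]; norm_num)

end Cfsg.Agent.H529.S8
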