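import Cfsg.Agent.H529.S8.RowFour
import Cfsg.Agent.H529.S8.Base
import Cfsg.Agent.H529.S8.Congr
import Cfsg.Agent.H196.S8.FiSocOne
import Cfsg.Agent.H196.S8.FiSocTwo
import Cfsg.Agent.H658.S8.FiSolv
import Cfsg.Agent.H30.S8.Fi23

/-!
# S4908: the row of Fi23 (helper529)
-/

set_option autoImplicit false

namespace Cfsg.Agent.H529.S8.Rfi23

open Cfsg Cfsg.Agent.H704.S8 Cfsg.Agent.H58.S8 Cfsg.Agent.H529.S8

universe u v

theorem row {X : Type v} [Group X] [Finite X] (h : IsFi23 X) : Row4.{u, v} 1 X := by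
  refine row_of4 (mo_fi23 h) ?_ (fun D hD => ?_) (fun D hD => ?_) (fun D hD => ?_) (fun D hD => ?_) (fun D hD => ?_)
  · norm_num
  · exact H658.S8.Fi.solv h hD
  · exact H196.S8.Fi23.soc1 h hD
  · exact H196.S8.Fi23.soc2 h hD
  · exact noNon_of_chief' h.1 (by rw [h.2]; norm_num) (by norm_num) (mo_fi23 h) hD (H30.S8.Fi23.chief base (iso_fi23 h) D)
  · exact cover_one (md_fi23 h)

end Cfsg.Agent.H529.S8.Rfi23
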