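import Cfsg.Agent.H529.S8.RowFour
import Cfsg.Agent.H529.S8.Base
import Cfsg.Agent.H529.S8.Congr
import Cfsg.Agent.H687.S8.HeOut
import Cfsg.Agent.H450.S8.RowHe
import Cfsg.Agent.H584.S8.HeChief
import Cfsg.Agent.H548.S8.HeSoc
import Cfsg.Agent.H393.S8.He

/-!
# S4908: the row of He (helper529)
-/

set_option autoImplicit false

namespace Cfsg.Agent.H529.S8.Rhe

open Cfsg Cfsg.Agent.H704.S8 Cfsg.Agent.H58.S8 Cfsg.Agent.H529.S8

universe u v

theorem row {X : Type v} [Group X] [Finite X] (h : IsHe X) : Row4.{u, v} 2 X := by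
  refine row_of4 (mo_he h) ?_ (fun D hD => ?_) (fun D hD => ?_) (fun D hD => ?_) (fun D hD => ?_) (fun D hD => ?_)
  · exact fun _ => (H687.S8.HeOut.out_he (iso_he h)).2 rfl
  · exact H393.S8.He.solv (iso_he h) D hD
  · exact H548.S8.He.soc1 (iso_he h) hD
  · exact H450.S8.He.soc2 (iso_he h) hD
  · exact noNon_of_chief' h.1 (by rw [h.2]; norm_num) (by norm_num) (mo_he h) hD (H584.S8.He.chief base (iso_he h) D)
  · exact cover_one (md_he h)

end Cfsg.Agent.H529.S8.Rhe
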