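import Cfsg.Agent.H529.S8.RowFour
import Cfsg.Agent.H529.S8.Base
import Cfsg.Agent.H529.S8.Congr
import Cfsg.Agent.H456.S8.HNSolv
import Cfsg.Agent.H871.S8.HNOut
import Cfsg.Agent.H52.S8.HN
import Cfsg.Agent.H788.S8.HNSocTwo
import Cfsg.Agent.H755.S8.RowHNF

/-!
# S4908: the row of HN (helper529)
-/

set_option autoImplicit false

namespace Cfsg.Agent.H529.S8.Rhn

open Cfsg Cfsg.Agent.H704.S8 Cfsg.Agent.H58.S8 Cfsg.Agent.H529.S8

universe u v

theorem row {X : Type v} [Group X] [Finite X] (h : IsHN X) : Row4.{u, v} 2 X := by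
  refine row_of4 (mo_hn h) ?_ (fun D hD => ?_) (fun D hD => ?_) (fun D hD => ?_) (fun D hD => ?_) (fun D hD => ?_)
  · exact fun _ => H871.S8.HNOut.out (iso_hn h)
  · exact H456.S8.HNSolv.solv_iso (iso_hn h) hD
  · exact H52.S8.HN.soc1 h hD
  · exact H788.S8.HN.soc2 (iso_hn h) hD
  · exact noNon_of_frob h.1 (by rw [h.2]; norm_num) (by norm_num) (mo_hn h) hD (H755.S8.HN.row base (iso_hn h) D)
  · exact cover_one (md_hn h)

end Cfsg.Agent.H529.S8.Rhn
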