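import Cfsg.Agent.H529.S8.RowFour
import Cfsg.Agent.H670.S8.Sharp
import Cfsg.Agent.H211.S8.NcSharp

/-!
# S4908: the noncentral case from the sharp forms of `Chief` (helper529)
-/

set_option autoImplicit false

namespace Cfsg.Agent.H529.S8

open Cfsg Cfsg.Agent.H704.S8 Cfsg.Agent.H58.S8

universe u v

/-- the noncentral case from `H670.S8.ChiefS` -/
theorem noNon_of_sharp {X : Type v} [Group X] [Finite X] (hs : IsSimpleGroup X) (h4 : 4 ∣ Nat.card X) {c : ℕ}
    (h1 : 1 ≤ c) (hmo : MO.{u} c X) {D : Set ℕ} (hD : Deg c X D) (hch : H670.S8.ChiefS.{u} c D X) :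
    NoNon.{u, v} D X := by
  intro G _ _ h N V _ _ hVN e hV hne hVN'
  exact H670.S8.noncentralS (H211.S8.deg_pos hD) (H211.S8.deg_sq (H529.S8.not_comm h4) h1 hmo.out.le hD) hch h N V
    hVN e hV hne hVN'

/-- the noncentral case from `H211.S8.ChiefS` -/
theorem noNon_of_sharp' {X : Type v} [Group X] [Finite X] {D : Set ℕ} (hch : H211.S8.ChiefS.{u} D X) :
    NoNon.{u, v} D X := by
  intro G _ _ h N V _ _ hVN e hV hne hVN'
  exact H211.S8.noncentralS hch h N V hVN e hV hne hVN'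

end Cfsg.Agent.H529.S8
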