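import Cfsg.Agent.H529.S8.RowFour
import Cfsg.Agent.H529.S8.Base
import Cfsg.Agent.H529.S8.Congr
import Cfsg.Agent.H469.S8.J3Out
import Cfsg.Agent.H858.S8.J3Solv
import Cfsg.Agent.H450.S8.RowsSmall
import Cfsg.Agent.H491.S8.JThreeCov
import Cfsg.Agent.H306.SD.JFrob
import Cfsg.Agent.H189.S8.J3Soc1

/-!
# S4908: the row of J3 (helper529)
-/

set_option autoImplicit false

namespace Cfsg.Agent.H529.S8.Rj3

open Cfsg Cfsg.Agent.H704.S8 Cfsg.Agent.H58.S8 Cfsg.Agent.H529.S8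

universe u v

theorem row {X : Type v} [Group X] [Finite X] (h : IsJ3 X) : Row4.{u, v} 2 X := by
  refine row_of4 (mo_j3 h) ?_ (fun D hD => ?_) (fun D hD => ?_) (fun D hD => ?_) (fun D hD => ?_) (fun D hD => ?_)
  · exact fun _ => (H469.S8.out_j3 (iso_j3 h)).2 rfl
  · exact H858.S8.solv (iso_j3 h) D hD
  · exact H189.S8.soc1_j3 (iso_j3 h) D hD
  · exact H450.S8.soc2_j3 h hD
  · exact noNon_of_frob h.1 (by rw [h.2]; norm_num) (by norm_num) (mo_j3 h) hD (H306.SD.J.frob (iso_j3 h) D hD)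
  · exact cover_prime (md_j3 h) Nat.prime_three (H491.S8.JThreeCov.coverAt (iso_j3 h) hD)

end Cfsg.Agent.H529.S8.Rj3
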