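import Cfsg.Agent.H529.S8.RowFour
import Cfsg.Agent.H529.S8.Base
import Cfsg.Agent.H529.S8.Congr
import Cfsg.Agent.H629.S8.FrobM
import Cfsg.Agent.H555.S8.Mon
import Cfsg.Agent.H555.S8.MonOne
import Cfsg.Agent.H555.S8.MonSolv

/-!
# S4908: the row of M (helper529)
-/

set_option autoImplicit false

namespace Cfsg.Agent.H529.S8.Rm

open Cfsg Cfsg.Agent.H704.S8 Cfsg.Agent.H58.S8 Cfsg.Agent.H529.S8

universe u v

theorem row {X : Type v} [Group X] [Finite X] (h : IsM X) : Row4.{u, v} 1 X := by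
  refine row_of4 (mo_m h) ?_ (fun D hD => ?_) (fun D hD => ?_) (fun D hD => ?_) (fun D hD => ?_) (fun D hD => ?_)
  · norm_num
  · exact H555.S8.Mon.solv (iso_m h) hD
  · exact H555.S8.Mon.soc1 (iso_m h) hD
  · exact H555.S8.Mon.soc2 (iso_m h) hD
  · exact noNon_of_frob h.1 (by rw [h.2]; norm_num) (by norm_num) (mo_m h) hD (H629.S8.frob_m_of allKnown allKnown (iso_m h) D)
  · exact cover_one (md_m h)

end Cfsg.Agent.H529.S8.Rm
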