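import Cfsg.Agent.H529.S8.RowFour
import Cfsg.Agent.H529.S8.Base
import Cfsg.Agent.H529.S8.Congr
import Cfsg.Agent.H640.S8.MTwelve
import Cfsg.Agent.H450.S8.RowsSmall
import Cfsg.Agent.H435.S8.MTwelve
import Cfsg.Agent.H435.S8.MTwelveOut
import Cfsg.Agent.H491.S8.MTwelveSoc
import Cfsg.Agent.H881.MF.Chief

/-!
# S4908: the row of M12 (helper529)
-/

set_option autoImplicit false

namespace Cfsg.Agent.H529.S8.Rm12

open Cfsg Cfsg.Agent.H704.S8 Cfsg.Agent.H58.S8 Cfsg.Agent.H529.S8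

universe u v

theorem row {X : Type v} [Group X] [Finite X] (h : IsM12 X) : Row4.{u, v} 2 X := by
  refine row_of4 (mo_m12 h) ?_ (fun D hD => ?_) (fun D hD => ?_) (fun D hD => ?_) (fun D hD => ?_) (fun D hD => ?_)
  · exact fun _ => H435.S8.MTwelve.out h
  · exact H640.S8.MTwelve.solv h hD
  · exact H491.S8.MTwelveSoc.soc1 h hD
  · exact H450.S8.soc2_m12 h hD
  · exact noNon_of_chief' h.1 (by rw [h.2]; norm_num) (by norm_num) (mo_m12 h) hD (H881.MF.chief h D)
  · exact cover_prime (md_m12 h) Nat.prime_two (H435.S8.MTwelve.cover h D hD)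

end Cfsg.Agent.H529.S8.Rm12
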