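import Cfsg.Agent.H529.S8.RowFour
import Cfsg.Agent.H529.S8.Base
import Cfsg.Agent.H529.S8.Congr
import Cfsg.Agent.H242.S8.MTwentyTwo
import Cfsg.Agent.H450.S8.RowsSmall
import Cfsg.Agent.H206.S8.M22Cov
import Cfsg.Agent.H682.S8.M22Out
import Cfsg.Agent.H109.S8.M22Soc
import Cfsg.Agent.H109.S8.M22Frob

/-!
# S4908: the row of M22 (helper529)
-/

set_option autoImplicit false

namespace Cfsg.Agent.H529.S8.Rm22

open Cfsg Cfsg.Agent.H704.S8 Cfsg.Agent.H58.S8 Cfsg.Agent.H529.S8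

universe u v

theorem row {X : Type v} [Group X] [Finite X] (h : IsM22 X) : Row4.{u, v} 2 X := by
  refine row_of4 (mo_m22 h) ?_ (fun D hD => ?_) (fun D hD => ?_) (fun D hD => ?_) (fun D hD => ?_) (fun D hD => ?_)
  · exact fun _ => (H682.S8.M22.out (iso_m22 h)).2 rfl
  · exact H242.S8.MTwentyTwo.solv (iso_m22 h) hD
  · exact H109.S8.M22.soc1 h hD
  · exact H450.S8.soc2_m22 h hD
  · exact noNon_of_frob h.1 (by rw [h.2]; norm_num) (by norm_num) (mo_m22 h) hD (H109.S8.M22.frob base (iso_m22 h) hD)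
  · exact Cover.final (H206.S8.m22_cover h hD)

end Cfsg.Agent.H529.S8.Rm22
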