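import Cfsg.Agent.H529.S8.RowFour
import Cfsg.Agent.H529.S8.Base
import Cfsg.Agent.H529.S8.Congr
import Cfsg.Agent.H909.S8.McLSocTwo
import Cfsg.Agent.H345.S8.McLSolv
import Cfsg.Agent.H32.S8.McLCover
import Cfsg.Agent.H517.S8.McLOut
import Cfsg.Agent.H345.S8.McLSocOne
import Cfsg.Agent.H757.S8.McL

/-!
# S4908: the row of McL (helper529)
-/

set_option autoImplicit false

namespace Cfsg.Agent.H529.S8.Rmcl

open Cfsg Cfsg.Agent.H704.S8 Cfsg.Agent.H58.S8 Cfsg.Agent.H529.S8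

universe u v

theorem row {X : Type v} [Group X] [Finite X] (h : IsMcL X) : Row4.{u, v} 2 X := by
  refine row_of4 (mo_mcl h) ?_ (fun D hD => ?_) (fun D hD => ?_) (fun D hD => ?_) (fun D hD => ?_) (fun D hD => ?_)
  · exact fun _ => H517.S8.McLOut.ne_aut (iso_mcl h)
  · exact H345.S8.McL.solv (iso_mcl h) hD
  · exact H345.S8.McL.soc1 (iso_mcl h) hD
  · exact H909.S8.McL.soc2 h hD
  · exact noNon_of_frob h.1 (by rw [h.2]; norm_num) (by norm_num) (mo_mcl h) hD (H757.S8.McL.row base (iso_mcl h) D)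
  · exact cover_prime (md_mcl h) Nat.prime_three (H32.S8.cover (iso_mcl h) D hD)

end Cfsg.Agent.H529.S8.Rmcl
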