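import Cfsg.Agent.H529.S8.RowFour
import Cfsg.Agent.H529.S8.Base
import Cfsg.Agent.H529.S8.Congr
import Cfsg.Agent.H740.S8.ON
import Cfsg.Agent.H393.S8.ON
import Cfsg.Agent.H62.S8.ONOutIs
import Cfsg.Agent.H740.S8.ONSoc
import Cfsg.Agent.H489.S8.ON
import Cfsg.Agent.H189.S8.ONSoc1

/-!
# S4908: the row of ON (helper529)
-/

set_option autoImplicit false

namespace Cfsg.Agent.H529.S8.Ron

open Cfsg Cfsg.Agent.H704.S8 Cfsg.Agent.H58.S8 Cfsg.Agent.H529.S8

universe u v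

theorem row {X : Type v} [Group X] [Finite X] (h : IsON X) : Row4.{u, v} 2 X := by
  refine row_of4 (mo_on h) ?_ (fun D hD => ?_) (fun D hD => ?_) (fun D hD => ?_) (fun D hD => ?_) (fun D hD => ?_)
  · exact fun _ => (H62.S8.ONOut.out h).2 rfl
  · exact H393.S8.ON.solv (iso_on h) D hD
  · exact H189.S8.soc1_on (iso_on h) D hD
  · exact H740.S8.ONSoc.soc2 (iso_on h) hD
  · exact noNon_of_frob h.1 (by rw [h.2]; norm_num) (by norm_num) (mo_on h) hD (H740.S8.ON.row base (iso_on h) D)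
  · exact H489.S8.ON.cover3 (iso_on h) D hD

end Cfsg.Agent.H529.S8.Ron
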