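import Cfsg.Agent.H529.S8.RowFour
import Cfsg.Agent.H529.S8.Base
import Cfsg.Agent.H529.S8.Congr
import Cfsg.Agent.H1.S8.RuCover
import Cfsg.Agent.H854.S8.RuSolv
import Cfsg.Agent.H915.S8.RuFrob
import Cfsg.Agent.H365.S8.RuSoc
import Cfsg.Agent.H788.S8.RuSocTwo

/-!
# S4908: the row of Ru (helper529)
-/

set_option autoImplicit false

namespace Cfsg.Agent.H529.S8.Rru

open Cfsg Cfsg.Agent.H704.S8 Cfsg.Agent.H58.S8 Cfsg.Agent.H529.S8

universe u v

theorem row {X : Type v} [Group X] [Finite X] (h : IsRu X) : Row4.{u, v} 1 X := by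
  refine row_of4 (mo_ru h) ?_ (fun D hD => ?_) (fun D hD => ?_) (fun D hD => ?_) (fun D hD => ?_) (fun D hD => ?_)
  · norm_num
  · exact H854.S8.Ru.solv (iso_ru h) hD
  · exact H365.S8.soc1_ru (iso_ru h) D hD
  · exact H788.S8.Ru.soc2 (iso_ru h) hD
  · exact noNon_of_frob h.1 (by rw [h.2]; norm_num) (by norm_num) (mo_ru h) hD (H915.S8.RuFrob.frob (iso_ru h) base D)
  · exact Cover.final (H1.S8.RuCover.row (iso_ru h) D hD)

end Cfsg.Agent.H529.S8.Rru
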