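import Cfsg.Agent.H529.S8.RowFour
import Cfsg.Agent.H529.S8.Base
import Cfsg.Agent.H529.S8.Congr
import Cfsg.Agent.H450.S8.RowSuz
import Cfsg.Agent.H882.S8.SuzOut
import Cfsg.Agent.H570.S8.SuzMain
import Cfsg.Agent.H456.S8.SuzSolv
import Cfsg.Agent.H859.S8.SuzTwo
import Cfsg.Agent.H759.S8.SuzThree
import Cfsg.Agent.H795.S8.SuzChief

/-!
# S4908: the row of Suz (helper529)
-/

set_option autoImplicit false

namespace Cfsg.Agent.H529.S8.Rsuz

open Cfsg Cfsg.Agent.H704.S8 Cfsg.Agent.H58.S8 Cfsg.Agent.H529.S8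

universe u v

theorem row {X : Type v} [Group X] [Finite X] (h : IsSuz X) : Row4.{u, v} 2 X := by
  refine row_of4 (mo_suz h) ?_ (fun D hD => ?_) (fun D hD => ?_) (fun D hD => ?_) (fun D hD => ?_) (fun D hD => ?_)
  · exact fun _ => H882.S8.SuzOut.out (iso_suz h)
  · exact H456.S8.SuzSolv.solv_iso (iso_suz h) hD
  · exact H570.S8.Suz.soc1' (iso_suz h) D hD
  · exact H450.S8.Suz.soc2 (iso_suz h) hD
  · exact noNon_of_chief' h.1 (by rw [h.2]; norm_num) (by norm_num) (mo_suz h) hD (H795.S8.SuzW.chief (iso_suz h) D)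
  · exact cover_two (a := 1) (b := 1) (md_suz h) (H859.S8.SuzTwo.cover (iso_suz h) D hD)
      (H759.S8.SuzThree.cover (iso_suz h) D hD)

end Cfsg.Agent.H529.S8.Rsuz
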