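import Cfsg.Agent.H529.S8.RowFour
import Cfsg.Agent.H529.S8.Base
import Cfsg.Agent.H529.S8.Congr
import Cfsg.Agent.H196.S8.ThSocTwo
import Cfsg.Agent.H810.S8.SolvTh
import Cfsg.Agent.H840.S8.ThFrob
import Cfsg.Agent.H658.S8.ThSocOne

/-!
# S4908: the row of Th (helper529)
-/

set_option autoImplicit false

namespace Cfsg.Agent.H529.S8.Rth

open Cfsg Cfsg.Agent.H704.S8 Cfsg.Agent.H58.S8 Cfsg.Agent.H529.S8

universe u v

theorem row {X : Type v} [Group X] [Finite X] (h : IsTh X) : Row4.{u, v} 1 X := by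
  obtain ⟨e⟩ := iso_th h
  refine row_of4 (mo_th h) ?_ (fun D hD => ?_) (fun D hD => ?_) (fun D hD => ?_) (fun D hD => ?_) (fun D hD => ?_)
  · norm_num
  · exact H810.S8.Th.solv D (deg_congr e hD)
  · exact H658.S8.Th.soc1 h hD
  · exact H196.S8.Th.soc2 h hD
  · exact noNon_of_chief' h.1 (by rw [h.2]; norm_num) (by norm_num) (mo_th h) hD (H840.S8.ThFrob.chief_Th base (iso_th h) D)
  · exact cover_one (md_th h)

end Cfsg.Agent.H529.S8.Rth
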